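import Mathlib

/-!
Character sums of quadratic functions on finite elementary abelian `2`-groups.
-/

set_option autoImplicit false

namespace CfsgLib.CharTwoW

/-- The sign of an element of `ZMod 2`. -/
def sgn (t : ZMod 2) : ℤ := if t = 0 then 1 else -1

theorem sgn_add : ∀ s t : ZMod 2, sgn (s + t) = sgn s * sgn t := by decide

theorem sgn_mul_self : ∀ s : ZMod 2, sgn s * sgn s = 1 := by decide

theorem sgn_zero : sgn 0 = 1 := rfl

theorem zmod_two_cases : ∀ c : ZMod 2, c = 0 ∨ c = 1 := by decide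

/-- A map whose polar form is biadditive. -/
def IsQuad {W P : Type*} [AddCommGroup W] [AddCommGroup P] (F : W → P) : Prop :=
  ∃ β : W →+ W →+ P, ∀ x y, F (x + y) = F x + F y + β x y

theorem IsQuad.map_zero {W P : Type*} [AddCommGroup W] [AddCommGroup P] {F : W → P}
    (h : IsQuad F) : F 0 = 0 := by
  obtain ⟨β, hβ⟩ := h
  have := hβ 0 0
  simpa using this

section sums

variable {W : Type*} [AddCommGroup W] [Fintype W]

theorem sum_sgn_hom (f : W →+ ZMod 2) :
    (∑ w, sgn (f w)) = if f = 0 then (Fintype.card W : ℤ) else 0 := by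
  split_ifs with h
  · subst h; simp [sgn_zero]
  · obtain ⟨v, hv⟩ : ∃ v, f v ≠ 0 := by
      by_contra! h'
      exact h (AddMonoidHom.ext h')
    have h1 : (∑ w, sgn (f w)) = ∑ w, sgn (f (w + v)) :=
      (Equiv.sum_comp (Equiv.addRight v) (fun w => sgn (f w))).symm
    have h2 : (∑ w, sgn (f (w + v))) = -∑ w, sgn (f w) := by
      rw [← Finset.sum_neg_distrib]
      refine Finset.sum_congr rfl fun w _ => ?_
      rw [map_add, sgn_add, show sgn (f v) = -1 by simp [sgn, hv]]
      ring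
    omega

theorem sq_sum_sgn (hW : ∀ w : W, w + w = 0) (q : W → ZMod 2) (β : W →+ W →+ ZMod 2)
    (hq : ∀ x y, q (x + y) = q x + q y + β x y) :
    (∑ w, sgn (q w)) ^ 2 =
      (Fintype.card W : ℤ) * ∑ d, if β.flip d = 0 then sgn (q d) else 0 := by
  classical
  calc (∑ w, sgn (q w)) ^ 2 = ∑ w, ∑ d, sgn (q w) * sgn (q (w + d)) := by
        rw [sq, Finset.sum_mul]
        refine Finset.sum_congr rfl fun w _ => ?_
        rw [← Finset.mul_sum, ← Equiv.sum_comp (Equiv.addLeft w) (fun d => sgn (q d))]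
        rfl
    _ = ∑ d, sgn (q d) * ∑ w, sgn (β.flip d w) := by
        rw [Finset.sum_comm]
        refine Finset.sum_congr rfl fun d _ => ?_
        rw [Finset.mul_sum]
        refine Finset.sum_congr rfl fun w _ => ?_
        rw [hq, sgn_add, sgn_add, AddMonoidHom.flip_apply]
        linear_combination (sgn (q d) * sgn (β w d)) * sgn_mul_self (q w)
    _ = _ := by
        rw [Finset.mul_sum]
        refine Finset.sum_congr rfl fun d _ => ?_
        rw [sum_sgn_hom]
        split_ifs <;> ring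

theorem pow_dvd_of_pow_dvd_sq {S : ℤ} {a n : ℕ} (hn : 2 * a < n) (h : (2 : ℤ) ^ n ∣ S ^ 2) :
    (2 : ℤ) ^ (a + 1) ∣ S := by
  have h1 : (2 : ℤ) ^ (2 * a + 1) ∣ S ^ 2 := (pow_dvd_pow 2 hn).trans h
  have h2 : ((2 : ℤ) ^ a) ^ 2 ∣ S ^ 2 := by
    rw [← pow_mul, mul_comm a 2]
    exact (pow_dvd_pow 2 (by omega)).trans h1
  obtain ⟨k, rfl⟩ := (Int.pow_dvd_pow_iff two_ne_zero).1 h2
  rw [mul_pow, ← pow_mul, pow_succ, mul_comm a 2] at h1
  have h3 : (2 : ℤ) ∣ k ^ 2 := (mul_dvd_mul_iff_left (pow_ne_zero _ two_ne_zero)).1 h1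
  rw [pow_succ]
  exact mul_dvd_mul_left _ (Int.prime_two.dvd_of_dvd_pow h3)

end sums

section duals

variable {P : Type*} [AddCommGroup P] [Finite P]

theorem exists_card_eq_two_pow (hP : ∀ x : P, x + x = 0) : ∃ d, Nat.card P = 2 ^ d := by
  have : Fact (Nat.Prime 2) := ⟨Nat.prime_two⟩
  letI : Module (ZMod 2) P := AddCommGroup.zmodModule fun x => by rw [two_nsmul]; exact hP x
  exact ⟨_, by
    rw [Module.natCard_eq_pow_finrank (K := ZMod 2), Nat.card_zmod]⟩

theorem exists_hom_ne_zero (hP : ∀ x : P, x + x = 0) {x : P} (hx : x ≠ 0) :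
    ∃ f : P →+ ZMod 2, f x ≠ 0 := by
  have : Fact (Nat.Prime 2) := ⟨Nat.prime_two⟩
  letI : Module (ZMod 2) P := AddCommGroup.zmodModule fun x => by rw [two_nsmul]; exact hP x
  by_contra! h
  exact hx ((Module.forall_dual_apply_eq_zero_iff (ZMod 2) x).1 fun φ => h φ.toAddMonoidHom)

theorem finiteHomZMod : Finite (P →+ ZMod 2) :=
  Finite.of_injective (fun f : P →+ ZMod 2 => (f : P → ZMod 2)) DFunLike.coe_injective

theorem card_hom_zmod (hP : ∀ x : P, x + x = 0) : Nat.card (P →+ ZMod 2) = Nat.card P := by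
  classical
  have : Fact (Nat.Prime 2) := ⟨Nat.prime_two⟩
  letI : Module (ZMod 2) P := AddCommGroup.zmodModule fun x => by rw [two_nsmul]; exact hP x
  let b := Module.finBasis (ZMod 2) P
  rw [Nat.card_congr b.equivFun.toEquiv]
  exact Nat.card_congr ((AddMonoidHom.toZModLinearMapEquiv 2).toEquiv.trans (b.constr (ZMod 2)).symm.toEquiv)

end duals

/-- Chevalley–Warning for quadratic maps. -/
theorem even_card_zeros {W P : Type*} [AddCommGroup W] [AddCommGroup P] [Finite W] [Finite P]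
    (hW : ∀ w : W, w + w = 0) (hP : ∀ x : P, x + x = 0) {F : W → P} (hF : IsQuad F)
    (hcard : Nat.card P ^ 2 < Nat.card W) : Even (Nat.card {w // F w = 0}) := by
  classical
  obtain ⟨β, hβ⟩ := hF
  haveI : Fintype W := Fintype.ofFinite W
  haveI := finiteHomZMod (P := P)
  haveI : Fintype (P →+ ZMod 2) := Fintype.ofFinite _
  obtain ⟨a, ha⟩ := exists_card_eq_two_pow hP
  obtain ⟨n, hn⟩ := exists_card_eq_two_pow hW
  rw [ha, hn, ← pow_mul] at hcard
  have han : 2 * a < n := by
    have := (Nat.pow_lt_pow_iff_right (by norm_num : 1 < 2)).1 hcard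
    omega
  have hsum : (2 : ℤ) ^ a * (Nat.card {w // F w = 0} : ℤ) =
      ∑ l : P →+ ZMod 2, ∑ w, sgn (l (F w)) := by
    rw [Finset.sum_comm]
    have h1 : ∀ w, (∑ l : P →+ ZMod 2, sgn (l (F w))) = if F w = 0 then (2 : ℤ) ^ a else 0 := by
      intro w
      have := sum_sgn_hom (AddMonoidHom.eval (F w) : (P →+ ZMod 2) →+ ZMod 2)
      simp only [AddMonoidHom.eval_apply_apply] at this
      rw [this, ← Nat.card_eq_fintype_card, card_hom_zmod hP, ha]
      push_cast
      split_ifs with h2 h3 h3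
      · rfl
      · obtain ⟨f, hf⟩ := exists_hom_ne_zero hP h3
        exact absurd (congrArg (fun g : (P →+ ZMod 2) →+ ZMod 2 => g f) h2) hf
      · exact absurd (AddMonoidHom.ext fun f => by
          show f (F w) = 0
          rw [h3, map_zero]) h2
      · rfl
    simp only [h1]
    rw [← Finset.sum_filter, Finset.sum_const, Nat.card_eq_fintype_card, Fintype.card_subtype,
      nsmul_eq_mul, mul_comm]
  have hdvd : (2 : ℤ) ^ (a + 1) ∣ ∑ l : P →+ ZMod 2, ∑ w, sgn (l (F w)) := by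
    refine Finset.dvd_sum fun l _ => pow_dvd_of_pow_dvd_sq han ?_
    rw [sq_sum_sgn hW (fun w => l (F w)) (AddMonoidHom.compHom l |>.comp β) fun x y => by
      rw [hβ, map_add, map_add]; rfl]
    rw [← Nat.card_eq_fintype_card, hn]
    push_cast
    exact dvd_mul_right _ _
  rw [← hsum, pow_succ, mul_dvd_mul_iff_left (pow_ne_zero _ two_ne_zero)] at hdvd
  exact even_iff_two_dvd.2 (by exact_mod_cast hdvd)

/-- A group of nondegenerate alternating forms on `W` has order at most `|W| ^ (1/2)`. -/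
theorem card_sq_le_of_nondeg {A W : Type*} [AddCommGroup A] [AddCommGroup W] [Finite A] [Finite W]
    (hA : ∀ x : A, x + x = 0) (hW : ∀ w : W, w + w = 0) [Nontrivial W]
    (ω : A →+ W →+ W →+ ZMod 2) (halt : ∀ a w, ω a w w = 0)
    (hnd : ∀ a, a ≠ 0 → ∀ w, ω a w = 0 → w = 0) : Nat.card A ^ 2 ≤ Nat.card W := by
  classical
  haveI : Fintype A := Fintype.ofFinite A
  haveI : Fintype W := Fintype.ofFinite W
  have : Fact (Nat.Prime 2) := ⟨Nat.prime_two⟩
  letI : Module (ZMod 2) W := AddCommGroup.zmodModule fun x => by rw [two_nsmul]; exact hW x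
  let e := Module.finBasis (ZMod 2) W
  have hsym : ∀ a x y, ω a x y = ω a y x := by
    intro a x y
    have h := halt a (x + y)
    simp only [map_add, AddMonoidHom.add_apply, halt, zero_add, add_zero] at h
    exact CharTwo.add_eq_zero.1 h |>.symm
  let φ : A → W → W → ZMod 2 := fun a x y =>
    ∑ i, ∑ j, if i < j then e.repr x i * e.repr y j * ω a (e i) (e j) else 0
  have hφω : ∀ a x y, φ a x y + φ a y x = ω a x y := by
    intro a x y
    have hlin : ∀ (c : ZMod 2) (v w : W), ω a (c • v) w = c * ω a v w ∧ ω a w (c • v) = c * ω a w v := by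
      intro c v w
      obtain rfl | rfl := zmod_two_cases c
      · simp
      · simp
    have h1 : ω a x y = ∑ i, ∑ j, e.repr x i * e.repr y j * ω a (e i) (e j) := by
      conv_lhs => rw [← e.sum_repr x, ← e.sum_repr y]
      simp only [map_sum, AddMonoidHom.finsetSum_apply]
      rw [Finset.sum_comm]
      refine Finset.sum_congr rfl fun i _ => Finset.sum_congr rfl fun j _ => ?_
      rw [(hlin _ _ _).1, (hlin _ _ _).2]
      ring
    rw [h1]
    show (∑ i, ∑ j, _) + (∑ i, ∑ j, _) = _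
    conv_lhs => arg 2; rw [Finset.sum_comm]
    rw [← Finset.sum_add_distrib]
    refine Finset.sum_congr rfl fun i _ => ?_
    rw [← Finset.sum_add_distrib]
    refine Finset.sum_congr rfl fun j _ => ?_
    rcases lt_trichotomy i j with h | rfl | h
    · rw [if_pos h, if_neg h.asymm, add_zero]
    · simp [halt]
    · rw [if_neg h.asymm, if_pos h, zero_add, hsym a (e j) (e i)]
      ring
  let q : A → W → ZMod 2 := fun a x => φ a x x
  have hq : ∀ a x y, q a (x + y) = q a x + q a y + ω a x y := by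
    intro a x y
    rw [← hφω]
    show φ a (x + y) (x + y) = φ a x x + φ a y y + (φ a x y + φ a y x)
    simp only [φ, map_add, Finsupp.coe_add, Pi.add_apply, ← Finset.sum_add_distrib]
    refine Finset.sum_congr rfl fun i _ => Finset.sum_congr rfl fun j _ => ?_
    split_ifs <;> ring
  have hadd : ∀ w a b, q (a + b) w = q a w + q b w := by
    intro w a b
    simp only [q, φ, ← Finset.sum_add_distrib, map_add, AddMonoidHom.add_apply]
    refine Finset.sum_congr rfl fun i _ => Finset.sum_congr rfl fun j _ => ?_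
    split_ifs <;> ring
  obtain ⟨n, hn⟩ := exists_card_eq_two_pow hW
  obtain ⟨m, hm⟩ := exists_card_eq_two_pow hA
  have hSsq : ∀ a, a ≠ 0 → (∑ w, sgn (q a w)) ^ 2 = (2 : ℤ) ^ n := by
    intro a ha
    rw [sq_sum_sgn hW (q a) (ω a) (hq a), Finset.sum_eq_single (0 : W)]
    · rw [if_pos (map_zero _), (IsQuad.map_zero ⟨ω a, hq a⟩ : q a 0 = 0), sgn_zero, mul_one,
        ← Nat.card_eq_fintype_card, hn]
      push_cast
      rfl
    · intro d _ hd
      rw [if_neg]
      intro h
      refine hd (hnd a ha d (AddMonoidHom.ext fun y => ?_))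
      rw [hsym]
      exact congrArg (fun f : W →+ ZMod 2 => f y) h
    · simp
  rw [hn, hm, ← pow_mul]
  refine Nat.pow_le_pow_right (by norm_num) ?_
  by_contra hlt
  have hm1 : 1 ≤ m := by omega
  obtain ⟨a₀, ha₀⟩ : ∃ a : A, a ≠ 0 := by
    by_contra! h
    have hs : Subsingleton A := ⟨fun a b => (h a).trans (h b).symm⟩
    have : (2 : ℕ) ^ m = 1 := hm ▸ Nat.card_unique
    rw [Nat.pow_eq_one] at this
    omega
  obtain ⟨k, hk⟩ : ∃ k, n = 2 * k := by
    have h := congrArg Int.natAbs (hSsq a₀ ha₀)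
    rw [Int.natAbs_pow, Int.natAbs_pow] at h
    obtain ⟨k, -, hk⟩ := (Nat.dvd_prime_pow Nat.prime_two).1
      (Dvd.intro _ ((sq _).symm.trans h) : Int.natAbs (∑ w, sgn (q a₀ w)) ∣ (2 : ℤ).natAbs ^ n)
    rw [hk, ← pow_mul] at h
    exact ⟨k, (Nat.pow_right_injective (le_refl 2) h).symm.trans (mul_comm _ _)⟩
  have hk1 : 1 ≤ k := by
    rcases Nat.eq_zero_or_pos k with rfl | h
    · exfalso
      have : 1 < Nat.card W := Finite.one_lt_card
      rw [hn, hk] at this
      simp at this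
    · exact h
  have htot : (2 : ℤ) ^ m * (Nat.card {w // ∀ a, q a w = 0} : ℤ) = ∑ a, ∑ w, sgn (q a w) := by
    rw [Finset.sum_comm]
    have h1 : ∀ w, (∑ a, sgn (q a w)) = if ∀ a, q a w = 0 then (2 : ℤ) ^ m else 0 := by
      intro w
      have := sum_sgn_hom (AddMonoidHom.mk' (fun a => q a w) (hadd w))
      simp only [AddMonoidHom.mk'_apply] at this
      rw [this, ← Nat.card_eq_fintype_card, hm]
      push_cast
      refine if_congr ⟨fun h a => congrArg (fun f : A →+ ZMod 2 => f a) h,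
        fun h => AddMonoidHom.ext h⟩ rfl rfl
    simp only [h1]
    rw [← Finset.sum_filter, Finset.sum_const, Nat.card_eq_fintype_card, Fintype.card_subtype,
      nsmul_eq_mul, mul_comm]
  -- every nonzero form contributes `± 2 ^ k`
  have hterm : ∀ a, a ≠ 0 → (2 : ℤ) ^ (k + 1) ∣ (∑ w, sgn (q a w)) - 2 ^ k := by
    intro a ha
    have h := hSsq a ha
    rw [hk, mul_comm 2 k, pow_mul] at h
    rcases sq_eq_sq_iff_eq_or_eq_neg.1 h with h | h
    · simp [h]
    · rw [h]; exact ⟨-1, by ring⟩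
  have h0 : ∀ w, q 0 w = 0 := fun w => by
    have := hadd w 0 0
    simpa using this
  have hsum : (2 : ℤ) ^ (k + 1) ∣ (∑ a, ∑ w, sgn (q a w)) - (2 ^ n + ((2 : ℤ) ^ m - 1) * 2 ^ k) := by
    have h1 : (2 : ℤ) ^ n + ((2 : ℤ) ^ m - 1) * 2 ^ k =
        ∑ a : A, if a = 0 then (2 : ℤ) ^ n else 2 ^ k := by
      rw [← Finset.add_sum_erase _ _ (Finset.mem_univ (0 : A)), if_pos rfl,
        Finset.sum_congr rfl (fun a ha => if_neg (Finset.ne_of_mem_erase ha)), Finset.sum_const,
        Finset.card_erase_of_mem (Finset.mem_univ _), Finset.card_univ,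
        ← Nat.card_eq_fintype_card, hm, nsmul_eq_mul, Nat.cast_sub Nat.one_le_two_pow]
      push_cast
      rfl
    rw [h1, ← Finset.sum_sub_distrib]
    refine Finset.dvd_sum fun a _ => ?_
    split_ifs with ha
    · subst ha
      simp [h0, sgn_zero, ← Nat.card_eq_fintype_card, hn]
    · exact hterm a ha
  rw [← htot] at hsum
  have hle : k + 1 ≤ m := by omega
  have h2 : (2 : ℤ) ^ (k + 1) ∣ (2 : ℤ) ^ k := by
    have e1 : (2 : ℤ) ^ (k + 1) ∣ (2 : ℤ) ^ m * (Nat.card {w // ∀ a, q a w = 0} : ℤ) :=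
      Dvd.dvd.mul_right (pow_dvd_pow _ hle) _
    have e2 : (2 : ℤ) ^ (k + 1) ∣ (2 : ℤ) ^ n + (2 : ℤ) ^ m * 2 ^ k :=
      dvd_add (pow_dvd_pow _ (by omega)) (Dvd.dvd.mul_right (pow_dvd_pow _ hle) _)
    have e3 := dvd_sub e1 hsum
    rw [sub_sub_cancel] at e3
    have := dvd_sub e2 e3
    rwa [show (2 : ℤ) ^ n + 2 ^ m * 2 ^ k - (2 ^ n + (2 ^ m - 1) * 2 ^ k) = 2 ^ k by ring] at this
  have h3 : (2 : ℕ) ^ (k + 1) ∣ 2 ^ k := by exact_mod_cast h2
  have := (Nat.pow_dvd_pow_iff_le_right (by norm_num : 1 < 2)).1 h3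
  omega

end CfsgLib.CharTwoW
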